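import Mathlib

/-!
# Abhyankar's inequality, algebraic independence part
-/

open IsLocalRing

namespace GrothLib.Abhyankar

universe u

variable {K L Γ₀ Γ₁ : Type u} [Field K] [Field L] [Algebra K L]
  [LinearOrderedCommGroupWithZero Γ₀] [LinearOrderedCommGroupWithZero Γ₁]
  (vK : Valuation K Γ₀) (vL : Valuation L Γ₁) [vK.HasExtension vL]

/-- The value of a polynomial in elements with independent residues is the value of a coefficient. -/
theorem exists_valuation_aeval {J : Type u} (y : J → vL.valuationSubring)
    (hy : AlgebraicIndependent (ResidueField vK.valuationSubring) (fun j => residue vL.valuationSubring (y j)))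
    (P : MvPolynomial J K) (hP : P ≠ 0) :
    ∃ c : K, c ≠ 0 ∧ vL (MvPolynomial.aeval (fun j => (y j : L)) P) = vL (algebraMap K L c) := by
  classical
  obtain ⟨d, hd, hmax⟩ := P.support.exists_max_image (fun d => vK (P.coeff d))
    (MvPolynomial.support_nonempty.2 hP)
  have hc0 : P.coeff d ≠ 0 := MvPolynomial.mem_support_iff.1 hd
  set c := P.coeff d with hc
  refine ⟨c, hc0, ?_⟩
  have hmem : ∀ e, c⁻¹ * P.coeff e ∈ vK.valuationSubring := by
    intro e
    rw [Valuation.mem_valuationSubring_iff, map_mul, map_inv₀,
      inv_mul_le_iff₀ (zero_lt_iff.2 (vK.ne_zero_iff.2 hc0)), mul_one]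
    by_cases he : e ∈ P.support
    · exact hmax e he
    · rw [MvPolynomial.notMem_support_iff.1 he, map_zero]; exact zero_le'
  let R : MvPolynomial J vK.valuationSubring :=
    ∑ e ∈ P.support, MvPolynomial.monomial e ⟨_, hmem e⟩
  have hR : MvPolynomial.map vK.valuationSubring.subtype R = MvPolynomial.C c⁻¹ * P := by
    conv_rhs => rw [P.as_sum, Finset.mul_sum]
    simp only [R, map_sum, MvPolynomial.map_monomial, MvPolynomial.C_mul_monomial]
    rfl
  have hRd : R.coeff d = 1 := by
    apply Subtype.val_injective
    have := congrArg (MvPolynomial.coeff d) hR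
    rw [MvPolynomial.coeff_map, MvPolynomial.coeff_C_mul, inv_mul_cancel₀ hc0] at this
    exact this
  have hres : MvPolynomial.map (residue vK.valuationSubring) R ≠ 0 := by
    intro h0
    have := congrArg (MvPolynomial.coeff d) h0
    rw [MvPolynomial.coeff_map, hRd, map_one, MvPolynomial.coeff_zero] at this
    exact one_ne_zero this
  set z := MvPolynomial.eval₂ (algebraMap vK.valuationSubring vL.valuationSubring) y R with hz
  have hunit : IsUnit z := by
    rw [← residue_ne_zero_iff_isUnit]
    intro h0
    refine hres (hy ?_)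
    rw [map_zero, MvPolynomial.aeval_def, MvPolynomial.eval₂_map, ← h0, hz, MvPolynomial.eval₂_comp_left]
    rfl
  have hval : vL (z : L) = 1 :=
    (Valuation.valuationSubring.integers vL).one_of_isUnit hunit
  have hzL : (z : L) = algebraMap K L c⁻¹ * MvPolynomial.aeval (fun j => (y j : L)) P := by
    have h1 : MvPolynomial.eval₂ (algebraMap K L) (fun j => (y j : L))
        (MvPolynomial.map vK.valuationSubring.subtype R) = (z : L) := by
      rw [MvPolynomial.eval₂_map, hz]
      refine Eq.trans ?_ (MvPolynomial.eval₂_comp_left vL.valuationSubring.subtype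
        (algebraMap vK.valuationSubring vL.valuationSubring) y R).symm
      rfl
    rw [← h1, hR, MvPolynomial.eval₂_mul, MvPolynomial.eval₂_C]
    rfl
  rw [hzL, map_mul, map_inv₀, map_inv₀] at hval
  exact (inv_mul_eq_one₀ (vL.ne_zero_iff.2 ((map_ne_zero (algebraMap K L)).2 hc0))).1 hval |>.symm

/-- Elements with independent values together with elements with independent residues are
algebraically independent. -/
theorem algebraicIndependent_sumElim {I J : Type u} (x : I → Lˣ) (y : J → vL.valuationSubring)
    (hx : ∀ (a b : I →₀ ℕ) (c c' : Kˣ),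
      vL ((a.prod fun i e => (x i : L) ^ e) * algebraMap K L c) =
        vL ((b.prod fun i e => (x i : L) ^ e) * algebraMap K L c') → a = b)
    (hy : AlgebraicIndependent (ResidueField vK.valuationSubring) (fun j => residue vL.valuationSubring (y j))) :
    AlgebraicIndependent K (Sum.elim (fun i => (x i : L)) (fun j => (y j : L))) := by
  classical
  rw [algebraicIndependent_iff]
  intro q hq
  by_contra hq0
  set Q := MvPolynomial.sumAlgEquiv K I J q with hQ
  have hQ0 : Q ≠ 0 := fun h => hq0 ((MvPolynomial.sumAlgEquiv K I J).injective (by rw [map_zero]; exact h))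
  set E : MvPolynomial J K →+* L := (MvPolynomial.aeval fun j => (y j : L)).toRingHom with hE
  have hsum : MvPolynomial.eval₂ E (fun i => (x i : L)) Q = 0 := by
    rw [← hq, hQ]
    have : (MvPolynomial.eval₂Hom E (fun i => (x i : L))).comp (MvPolynomial.sumAlgEquiv K I J).toRingEquiv.toRingHom
        = (MvPolynomial.aeval (R := K) (Sum.elim (fun i => (x i : L)) fun j => (y j : L))).toRingHom := by
      refine MvPolynomial.ringHom_ext (fun r => ?_) fun i => ?_
      · simp [E]
      · cases i <;> simp [E]
    exact DFunLike.congr_fun this q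
  rw [MvPolynomial.eval₂_eq] at hsum
  set F : (I →₀ ℕ) → L := fun a => E (Q.coeff a) * a.prod fun i e => (x i : L) ^ e with hF
  change ∑ a ∈ Q.support, F a = 0 at hsum
  have hval : ∀ a ∈ Q.support, ∃ c : Kˣ, vL (F a) = vL ((a.prod fun i e => (x i : L) ^ e) * algebraMap K L c) := by
    intro a ha
    obtain ⟨c, hc0, hc⟩ := exists_valuation_aeval vK vL y hy (Q.coeff a) (MvPolynomial.mem_support_iff.1 ha)
    refine ⟨Units.mk0 c hc0, ?_⟩
    rw [hF, map_mul, map_mul, mul_comm, Units.val_mk0]
    exact congrArg _ hc
  have hne : ∀ a ∈ Q.support, vL (F a) ≠ 0 := by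
    intro a ha
    obtain ⟨c, hc⟩ := hval a ha
    rw [hc, vL.ne_zero_iff]
    refine mul_ne_zero ?_ ((map_ne_zero _).2 c.ne_zero)
    exact Finset.prod_ne_zero_iff.2 fun i _ => pow_ne_zero _ (x i).ne_zero
  have hinj : ∀ a ∈ Q.support, ∀ b ∈ Q.support, vL (F a) = vL (F b) → a = b := by
    intro a ha b hb hab
    obtain ⟨c, hc⟩ := hval a ha
    obtain ⟨c', hc'⟩ := hval b hb
    exact hx a b c c' (hc.symm.trans (hab.trans hc'))
  obtain ⟨a0, ha0, hmax⟩ := Q.support.exists_max_image (fun a => vL (F a)) (MvPolynomial.support_nonempty.2 hQ0)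
  have := vL.map_sum_eq_of_lt ha0 (fun a ha => by
    rw [Finset.mem_sdiff, Finset.mem_singleton] at ha
    exact lt_of_le_of_ne (hmax a ha.1) fun h => ha.2 (hinj a ha.1 a0 ha0 h))
  rw [hsum, map_zero] at this
  exact hne a0 ha0 this.symm

end GrothLib.Abhyankar
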